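import Groth.Agent.H4.NPowEtale
import Groth.Agent.H2.FlatHom.Base
import Groth.Agent.Lib.Henselian.Sections

/-!
# Multiplication by an invertible integer on a smooth commutative group scheme is étale
-/

set_option autoImplicit false
universe u

open CategoryTheory CategoryTheory.Limits MonoidalCategory CartesianMonoidalCategory MonObj
open AlgebraicGeometry Groth.Agent.Lib

namespace Groth.Agent.Lib.EtaleTors.Basic

attribute [local instance] Hom.commMonoid

/-- Sections of an unramified scheme over a local ring with the same closed point are equal. -/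
theorem section_eq_of_residue {R : Type u} [CommRing R] [IsLocalRing R] {H : Scheme.{u}}
    (h : H ⟶ Spec (CommRingCat.of R)) [FormallyUnramified h] [LocallyOfFiniteType h]
    (u v : Spec (CommRingCat.of R) ⟶ H) (hu : u ≫ h = 𝟙 _) (hv : v ≫ h = 𝟙 _)
    (huv : Spec.map (CommRingCat.ofHom (IsLocalRing.residue R)) ≫ u =
      Spec.map (CommRingCat.ofHom (IsLocalRing.residue R)) ≫ v) : u = v := by
  let ψ := pullback.lift u v (hu.trans hv.symm)
  let Δ := pullback.diagonal h
  have hmem : ψ.base (IsLocalRing.closedPoint R) ∈ Set.range Δ.base := by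
    have e : Spec.map (CommRingCat.ofHom (IsLocalRing.residue R)) ≫ ψ =
        (Spec.map (CommRingCat.ofHom (IsLocalRing.residue R)) ≫ u) ≫ Δ := by
      apply pullback.hom_ext
      · rw [Category.assoc, Category.assoc]
        erw [pullback.lift_fst, pullback.lift_fst]
        rw [Category.comp_id]
      · rw [Category.assoc, Category.assoc]
        erw [pullback.lift_snd, pullback.lift_snd]
        rw [Category.comp_id, huv]
    refine ⟨(Spec.map (CommRingCat.ofHom (IsLocalRing.residue R)) ≫ u).base
      (IsLocalRing.closedPoint (IsLocalRing.ResidueField R)), ?_⟩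
    have hc : (Spec.map (CommRingCat.ofHom (IsLocalRing.residue R))).base
        (IsLocalRing.closedPoint (IsLocalRing.ResidueField R)) = IsLocalRing.closedPoint R :=
      IsLocalRing.comap_closedPoint (IsLocalRing.residue R)
    rw [← hc, ← Scheme.Hom.comp_apply, ← Scheme.Hom.comp_apply, e]
  have hr : Set.range ψ.base ⊆ Set.range Δ.base := by
    rintro _ ⟨z, rfl⟩
    exact ((IsLocalRing.specializes_closedPoint z).map ψ.base.hom.continuous).mem_open
      Δ.isOpenEmbedding.isOpen_range hmem
  have e := IsOpenImmersion.lift_fac Δ ψ hr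
  have e1 := congrArg (· ≫ pullback.fst h h) e
  have e2 := congrArg (· ≫ pullback.snd h h) e
  simp only [Category.assoc] at e1 e2
  erw [pullback.diagonal_fst, Category.comp_id, pullback.lift_fst] at e1
  erw [pullback.diagonal_snd, Category.comp_id, pullback.lift_snd] at e2
  exact e1.symm.trans e2

variable {S : Scheme.{u}} {G : Over S} [GrpObj G] [IsCommMonObj G] [Smooth G.hom]

/-- Multiplication by `n` invertible on `S` is étale on a smooth commutative group scheme. -/
theorem etale_pow {n : ℕ} (hn : ∀ (L : Type u) [Field L], (Spec (CommRingCat.of L) ⟶ S) → (n : L) ≠ 0) :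
    Etale ((𝟙 G : G ⟶ G) ^ n).left := by
  have : LocallyOfFinitePresentation (((𝟙 G : G ⟶ G) ^ n).left ≫ G.hom) := by
    rw [Over.w]; infer_instance
  have : LocallyOfFinitePresentation ((𝟙 G : G ⟶ G) ^ n).left :=
    Flat55.FibreTransfer.locallyOfFinitePresentation_of_comp this inferInstance
  have hu : FormallyUnramified ((𝟙 G : G ⟶ G) ^ n).left :=
    H4.TangentUnram.formallyUnramified_of_tangentInjective _ (H4.NPowUnram.tangentInjective_pow hn)
  have : Flat ((𝟙 G : G ⟶ G) ^ n).left := by
    refine Flat55.FibreTransfer.flat _ G.hom (Over.w _) fun s => ?_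
    obtain ⟨e, he⟩ := H2.FlatHom.Base.exists_iso_fib ((𝟙 G : G ⟶ G) ^ n) s
    rw [he]
    have hfib : H2.FlatHom.Base.fib ((𝟙 G : G ⟶ G) ^ n) s =
        (𝟙 (Red.bc (H2.FlatHom.Base.pt s) G) : Red.bc (H2.FlatHom.Base.pt s) G ⟶ _) ^ n := by
      rw [H2.FlatHom.Base.fib]
      exact (map_pow (Functor.homMonoidHom (Over.pullback (H2.FlatHom.Base.pt s))) (𝟙 G) n).trans
        (by rw [Functor.homMonoidHom_apply, CategoryTheory.Functor.map_id])
    have : LocallyOfFiniteType (Red.bc (H2.FlatHom.Base.pt s) G).hom :=
      GrpSch.bc_hom_of (P := @LocallyOfFiniteType) (H2.FlatHom.Base.pt s) G inferInstance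
    have hns : (n : (S.residueField s : Type u)) ≠ 0 := hn _ (H2.FlatHom.Base.pt s)
    have : Flat (H2.FlatHom.Base.fib ((𝟙 G : G ⟶ G) ^ n) s).left := by
      rw [hfib]
      have := H4.NPowEtale.etale_pow (G := Red.bc (H2.FlatHom.Base.pt s) G) hns
      infer_instance
    exact MorphismProperty.comp_mem (W := @Flat) e.inv _ inferInstance this
  exact Etale.of_formallyUnramified_of_flat _

end Groth.Agent.Lib.EtaleTors.Basic
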